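/-
Fixed points of an endomorphism in quotients, and the order of an abelian group with an automorphism of
prime order having few fixed points.
-/
import Mathlib

set_option autoImplicit false

namespace Cfsg.Lib.AlperinFixed

universe u

section Quotient

variable {G : Type u} [Group G] [Finite G]

/-- An endomorphism has at most as many fixed points on a quotient as on the group. -/
theorem card_fixed_quotient_le (f : G →* G) (N : Subgroup G) [N.Normal] (g : G ⧸ N → G ⧸ N)
    (hg : ∀ x : G, g x = (f x : G ⧸ N)) :
    Nat.card {x : G ⧸ N // g x = x} ≤ Nat.card {x : G // f x = x} := by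
  classical
  let S : Set G := (QuotientGroup.mk : G → G ⧸ N) ⁻¹' {x | g x = x}
  have h1 : Nat.card S = Nat.card N * Nat.card {x : G ⧸ N // g x = x} := by
    rw [Nat.card_congr (QuotientGroup.preimageMkEquivSubgroupProdSet N {x | g x = x}), Nat.card_prod]
    rfl
  have hS : ∀ a : S, (a : G)⁻¹ * f a ∈ N := fun a =>
    QuotientGroup.eq.1 ((show g (a : G) = (a : G) from a.2).symm.trans (hg a))
  let φ : S → N := fun a => ⟨(a : G)⁻¹ * f a, hS a⟩
  have hrep : ∀ a : S, ∃ b : S, φ b = φ a := fun a => ⟨a, rfl⟩
  let r : N → G := fun v => if h : ∃ b : S, φ b = v then ((Classical.choose h : S) : G) else 1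
  have hr : ∀ a : S, (r (φ a))⁻¹ * f (r (φ a)) = (a : G)⁻¹ * f a := by
    intro a
    simp only [r, dif_pos (hrep a)]
    exact congrArg Subtype.val (Classical.choose_spec (hrep a))
  let ψ : S → N × {x : G // f x = x} := fun a => (φ a, ⟨(a : G) * (r (φ a))⁻¹, by
    have h := hr a
    rw [map_mul, map_inv]
    calc f (a : G) * (f (r (φ a)))⁻¹
        = (a : G) * ((a : G)⁻¹ * f a) * ((r (φ a))⁻¹ * f (r (φ a)))⁻¹ * (r (φ a))⁻¹ := by group
      _ = (a : G) * (r (φ a))⁻¹ := by rw [h]; group⟩)
  have hψ : Function.Injective ψ := by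
    intro a b hab
    simp only [ψ, Prod.mk.injEq, Subtype.mk.injEq] at hab
    rw [hab.1] at hab
    exact Subtype.ext (mul_right_cancel hab.2)
  have h2 := Nat.card_le_card_of_injective ψ hψ
  rw [h1, Nat.card_prod] at h2
  exact Nat.le_of_mul_le_mul_left h2 Nat.card_pos

/-- In a `p`-group, the elements fixed modulo `N` have bounded order modulo `N`. -/
theorem pow_mem_of_fixed_mod {p n : ℕ} [hp : Fact p.Prime] (hG : IsPGroup p G) (f : G →* G)
    (hf : Nat.card {x : G // f x = x} ≤ p ^ n) (N : Subgroup G) [N.Normal] (hN : N ≤ N.comap f) {x : G}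
    (hx : x⁻¹ * f x ∈ N) : x ^ p ^ n ∈ N := by
  let g : G ⧸ N →* G ⧸ N := QuotientGroup.map N N f hN
  let C : Subgroup (G ⧸ N) := g.eqLocus (MonoidHom.id _)
  obtain ⟨j, hj⟩ := IsPGroup.iff_card.1 ((hG.to_quotient N).to_subgroup C)
  have hC : Nat.card C ≤ p ^ n :=
    le_trans (le_of_eq (Nat.card_congr (Equiv.refl _))) ((card_fixed_quotient_le f N g (fun _ => rfl)).trans hf)
  rw [hj] at hC
  have hjn : j ≤ n := (Nat.pow_le_pow_iff_right hp.out.one_lt).1 hC
  have hxC : ((x : G ⧸ N)) ∈ C := (QuotientGroup.eq.2 hx).symm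
  have h := orderOf_dvd_iff_pow_eq_one.1 ((C.orderOf_dvd_natCard hxC).trans (hj ▸ pow_dvd_pow p hjn))
  rw [← QuotientGroup.mk_pow] at h
  exact (QuotientGroup.eq_one_iff _).1 h

end Quotient

section Abelian

/-- An abelian group of exponent dividing `p ^ c` with an endomorphism of period `p` fixing at most `p ^ n`
elements has order at most `p ^ (n * p * c)`. -/
theorem card_le_of_exponent {p n : ℕ} [hp : Fact p.Prime] : ∀ (c : ℕ) (B : Type u) [AddCommGroup B] [Finite B]
    (f : B →+ B), (∀ x, f^[p] x = x) → Nat.card {x : B // f x = x} ≤ p ^ n → (∀ x : B, p ^ c • x = 0) →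
    Nat.card B ≤ p ^ (n * p * c) := by
  intro c
  induction c with
  | zero =>
    intro B _ _ f _ _ hc
    haveI : Subsingleton B := ⟨fun a b => by
      have ha := hc a
      have hb := hc b
      rw [pow_zero, one_smul] at ha hb
      rw [ha, hb]⟩
    exact le_of_le_of_eq (Finite.card_le_one_iff_subsingleton.2 this) (by rw [mul_zero, pow_zero])
  | succ c ih =>
    intro B _ _ f hf hfix hc
    let F : AddMonoid.End B := f
    let ψ : AddMonoid.End B := F - 1
    have hker : Nat.card (AddMonoidHom.ker (ψ : B →+ B)) ≤ p ^ n := by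
      refine le_trans (le_of_eq (Nat.card_congr (Equiv.subtypeEquivRight fun x => ?_))) hfix
      show f x - x = 0 ↔ f x = x
      exact sub_eq_zero
    -- the images of the powers of `ψ`
    let I : ℕ → AddSubgroup B := fun i => AddMonoidHom.range ((ψ ^ i : AddMonoid.End B) : B →+ B)
    have hstep : ∀ i, Nat.card (I i) ≤ p ^ n * Nat.card (I (i + 1)) := by
      intro i
      let h : I i →+ B := (ψ : B →+ B).comp (I i).subtype
      have hrange : h.range = I (i + 1) := by
        refine le_antisymm ?_ ?_
        · rintro _ ⟨⟨_, y, rfl⟩, rfl⟩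
          exact ⟨y, by rw [pow_succ']; rfl⟩
        · rintro _ ⟨y, rfl⟩
          exact ⟨⟨_, y, rfl⟩, by rw [pow_succ']; rfl⟩
      have hk : Nat.card h.ker ≤ p ^ n := by
        refine le_trans (Nat.card_le_card_of_injective
          (fun x : h.ker => (⟨((x : I i) : B), x.2⟩ : AddMonoidHom.ker (ψ : B →+ B))) ?_) hker
        intro x y hxy
        exact Subtype.ext (Subtype.ext (congrArg Subtype.val hxy : _))
      rw [AddSubgroup.card_eq_card_quotient_mul_card_addSubgroup h.ker,
        Nat.card_congr (QuotientAddGroup.quotientKerEquivRange h).toEquiv, hrange, mul_comm]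
      exact Nat.mul_le_mul_right _ hk
    have hiter : ∀ i, Nat.card B ≤ p ^ (n * i) * Nat.card (I i) := by
      intro i
      induction i with
      | zero =>
        rw [mul_zero, pow_zero, one_mul]
        exact Nat.card_le_card_of_injective (fun x => (⟨x, x, by rw [pow_zero]; rfl⟩ : I 0))
          fun x y h => congrArg Subtype.val h
      | succ i hi =>
        refine hi.trans (le_trans (Nat.mul_le_mul_left _ (hstep i)) (le_of_eq ?_))
        rw [← mul_assoc, ← pow_add, Nat.mul_succ]
    -- the `p`-th power lies in the multiples of `p`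
    let B' : AddSubgroup B := (nsmulAddMonoidHom (α := B) p).range
    have hfp : F ^ p = 1 := by
      refine AddMonoidHom.ext fun x => ?_
      have h : ⇑(F ^ p) = (⇑F)^[p] := AddMonoid.End.coe_pow B F p
      exact (congrFun h x).trans (hf x)
    have hIp : I p ≤ B' := by
      rintro _ ⟨x, rfl⟩
      obtain ⟨r, hr⟩ := Commute.exists_add_pow_prime_eq hp.out (Commute.one_right ψ)
      have he : ψ + 1 = F := sub_add_cancel _ _
      rw [he, hfp, one_pow] at hr
      have h2 : ψ ^ p = -((p : AddMonoid.End B) * ψ * 1 * r) := by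
        refine eq_neg_of_add_eq_zero_left ?_
        have h3 := hr.symm
        rw [add_right_comm] at h3
        exact add_eq_right.1 h3
      refine ⟨-(ψ (r x)), ?_⟩
      rw [h2, mul_one]
      show p • -(ψ (r x)) = -(((p : AddMonoid.End B) * ψ * r) x)
      rw [smul_neg]
      rfl
    have hmaps : ∀ x ∈ B', f x ∈ B' := by
      rintro _ ⟨x, rfl⟩
      exact ⟨f x, (map_nsmul f p x).symm⟩
    let f' : B' →+ B' := (f.comp B'.subtype).codRestrict B' (fun x => hmaps _ x.2)
    have hf' : ∀ x : B', f'^[p] x = x := by
      intro x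
      have h : ∀ k, ((f'^[k] x : B') : B) = f^[k] x := by
        intro k
        induction k with
        | zero => rfl
        | succ k hk => rw [Function.iterate_succ_apply', Function.iterate_succ_apply', ← hk]; rfl
      exact Subtype.ext ((h p).trans (hf x))
    have hfix' : Nat.card {x : B' // f' x = x} ≤ p ^ n := by
      refine le_trans (Nat.card_le_card_of_injective
        (fun x : {x : B' // f' x = x} =>
          (⟨((x : B') : B), congrArg Subtype.val x.2⟩ : {y : B // f y = y})) ?_) hfix
      intro x y hxy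
      exact Subtype.ext (Subtype.ext (congrArg Subtype.val hxy : _))
    have hc' : ∀ x : B', p ^ c • x = 0 := by
      rintro ⟨_, x, rfl⟩
      refine Subtype.ext ?_
      show p ^ c • p • x = 0
      rw [← mul_smul, ← pow_succ]
      exact hc x
    refine (hiter p).trans (le_trans (Nat.mul_le_mul_left _
      (le_trans (AddSubgroup.card_le_of_le hIp) (ih B' f' hf' hfix' hc'))) (le_of_eq ?_))
    rw [← pow_add]
    congr 1
    ring

end Abelian

end Cfsg.Lib.AlperinFixed
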