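/-
Bounds for the derived length: extensions, small groups, and a nilpotent group with a small lower central
factor deep inside.
-/
import Cfsg.Agent.S4206
import Mathlib

set_option autoImplicit false

open scoped commutatorElement

namespace Cfsg.Lib.AlperinFixed

universe u

variable {G : Type u} [Group G]

theorem derivedSeries_bot_add {a : ℕ} (N : Subgroup G) (h : derivedSeries G a ≤ N) {b : ℕ}
    (hb : derivedSeries N b = ⊥) : derivedSeries G (a + b) = ⊥ := by
  have key : ∀ j, derivedSeries G (a + j) ≤ (derivedSeries N j).map N.subtype := by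
    intro j
    induction j with
    | zero =>
      rw [Nat.add_zero, derivedSeries_zero, ← MonoidHom.range_eq_map, Subgroup.range_subtype]
      exact h
    | succ j ih =>
      rw [← Nat.add_assoc, derivedSeries_succ, derivedSeries_succ, Subgroup.map_commutator]
      exact Subgroup.commutator_mono ih ih
  have h' := key b
  rwa [hb, Subgroup.map_bot, le_bot_iff] at h'

theorem derivedSeries_le_of_quotient {a : ℕ} (N : Subgroup G) [N.Normal] (h : derivedSeries (G ⧸ N) a = ⊥) :
    derivedSeries G a ≤ N := by
  have h' := map_derivedSeries_le_derivedSeries (QuotientGroup.mk' N) a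
  rwa [h, le_bot_iff, Subgroup.map_eq_bot_iff, QuotientGroup.ker_mk'] at h'

theorem derivedSeries_bot_of_le {a b : ℕ} (h : a ≤ b) (ha : derivedSeries G a = ⊥) : derivedSeries G b = ⊥ :=
  le_bot_iff.1 (ha ▸ derivedSeries_antitone G h)

/-- A finite solvable group has derived length at most its order. -/
theorem derivedSeries_bot_of_card_le [Finite G] (hsol : Group.IsSolvable G) {K : ℕ} (hK : Nat.card G ≤ K) :
    derivedSeries G K = ⊥ := by
  haveI := hsol
  have key : ∀ i, derivedSeries G i = ⊥ ∨ Nat.card (derivedSeries G i) + i ≤ Nat.card G := by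
    intro i
    induction i with
    | zero => exact Or.inr (by simp)
    | succ i ih =>
      by_cases hb : derivedSeries G i = ⊥
      · exact Or.inl (derivedSeries_bot_of_le i.le_succ hb)
      · refine Or.inr ?_
        have hlt : derivedSeries G (i + 1) < derivedSeries G i := by
          rw [derivedSeries_succ]
          exact Group.IsSolvable.commutator_lt_of_ne_bot hb
        have h2 : Nat.card (derivedSeries G (i + 1)) < Nat.card (derivedSeries G i) :=
          lt_of_not_ge fun h => hlt.ne (Subgroup.eq_of_le_of_card_ge hlt.le h)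
        have h3 := ih.resolve_left hb
        omega
  refine derivedSeries_bot_of_le hK ((key _).resolve_right fun h => ?_)
  have := Nat.card_pos (α := derivedSeries G (Nat.card G))
  omega

/-- If the factor `γ (H + 1) / γ (H + 2)` of a subgroup `R` lying deep in a nilpotent group is small, it is
trivial. -/
theorem lowerCentral_eq_bot_of_index_le [Finite G] [Group.IsNilpotent G] {R : Subgroup G} [R.Normal] {M H : ℕ}
    (hR : R ≤ (⊤ : Subgroup G).lowerCentralSeries M)
    (hM : Nat.card ((⊤ : Subgroup R).lowerCentralSeries H) ≤
      M * Nat.card ((⊤ : Subgroup R).lowerCentralSeries (H + 1))) :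
    (⊤ : Subgroup R).lowerCentralSeries (H + 1) = ⊥ := by
  let A : ℕ → Subgroup G := fun i => (fun X : Subgroup G => ⁅X, (⊤ : Subgroup G)⁆)^[i]
    (((⊤ : Subgroup R).lowerCentralSeries H).map R.subtype)
  have hsucc : ∀ i, A (i + 1) = ⁅A i, (⊤ : Subgroup G)⁆ := fun i => Function.iterate_succ_apply' _ _ _
  haveI hN : ∀ i, (A i).Normal := by
    intro i
    induction i with
    | zero =>
      show (((⊤ : Subgroup R).lowerCentralSeries H).map R.subtype).Normal
      infer_instance
    | succ i ih => rw [hsucc]; infer_instance
  have hdesc : ∀ i, A (i + 1) ≤ A i := fun i => by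
    rw [hsucc]
    exact Subgroup.commutator_le_left _ _
  have hle : ((⊤ : Subgroup R).lowerCentralSeries (H + 1)).map R.subtype ≤ A (M + 1) := by
    rw [Subgroup.lowerCentralSeries_succ, Subgroup.map_commutator, ← MonoidHom.range_eq_map, Subgroup.range_subtype]
    have h := Cfsg.Agent.S4206.result A hN hdesc ⊤ (fun i => (hsucc i).ge) 0 M
    rw [Nat.zero_add] at h
    exact (Subgroup.commutator_mono (le_refl (A 0)) hR).trans h
  suffices h : A (M + 1) = ⊥ by
    rw [h, le_bot_iff, Subgroup.map_eq_bot_iff_of_injective _ R.subtype_injective] at hle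
    exact hle
  by_contra hne
  -- the series strictly decreases
  have hstrict : ∀ i ≤ M, 2 * Nat.card (A (i + 1)) ≤ Nat.card (A i) := by
    intro i hi
    obtain ⟨d, hd⟩ := Subgroup.card_dvd_of_le (hdesc i)
    have hd1 : d ≠ 1 := by
      intro h1
      have heq : A (i + 1) = A i := Subgroup.eq_of_le_of_card_ge (hdesc i) (by rw [hd, h1, mul_one])
      have hlow : ∀ m, A i ≤ (⊤ : Subgroup G).lowerCentralSeries m := by
        intro m
        induction m with
        | zero => exact le_top
        | succ m ih =>
          rw [← heq, hsucc, Subgroup.lowerCentralSeries_succ]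
          exact Subgroup.commutator_mono ih le_rfl
      obtain ⟨m, hm⟩ := Subgroup.nilpotent_iff_lowerCentralSeries.1 ‹Group.IsNilpotent G›
      refine hne (le_bot_iff.1 ?_)
      have hanti : A (M + 1) ≤ A i := antitone_nat_of_succ_le hdesc (by omega)
      exact hanti.trans ((hlow m).trans hm.le)
    have hd0 : d ≠ 0 := fun h0 => (Nat.card_pos (α := A i)).ne' (by rw [hd, h0, mul_zero])
    rw [hd, mul_comm 2]
    exact Nat.mul_le_mul_left _ (by omega)
  have hpow : ∀ i ≤ M + 1, 2 ^ i * Nat.card (A i) ≤ Nat.card (A 0) := by
    intro i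
    induction i with
    | zero => intro _; simp
    | succ i ih =>
      intro hi
      refine le_trans ?_ (ih (by omega))
      rw [pow_succ, mul_assoc]
      exact Nat.mul_le_mul_left _ (hstrict i (by omega))
  have h0 : Nat.card (A 0) ≤ M * Nat.card (A (M + 1)) := by
    refine le_trans (le_of_eq (Subgroup.card_subtype R _)) (hM.trans (Nat.mul_le_mul_left _ ?_))
    exact le_trans (le_of_eq (Subgroup.card_subtype R _).symm) (Subgroup.card_le_of_le hle)
  have h1 := (hpow (M + 1) le_rfl).trans h0
  have h2 : 2 ^ (M + 1) ≤ M := Nat.le_of_mul_le_mul_right h1 Nat.card_pos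
  have h3 := Nat.lt_two_pow_self (n := M + 1)
  omega

end Cfsg.Lib.AlperinFixed
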