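/-
The derived length of a finite `p`-group with an automorphism of order `p` having at most `p ^ n` fixed points.
-/
import Cfsg.Agent.LieFpf.Twisted
import Cfsg.Agent.AlperinFixed.Count
import Cfsg.Agent.AlperinFixed.Series

set_option autoImplicit false

namespace Cfsg.Lib.AlperinFixed

open Cfsg.Lib.LieFpf

universe u

theorem exists_restrict {G : Type u} [Group G] [Finite G] (R : Subgroup G) (f : G →* G) (hR : ∀ x ∈ R, f x ∈ R) :
    ∃ g : R →* R, (∀ x : R, (g x : G) = f x) ∧ (∀ (k : ℕ) (x : R), ((g^[k] x : R) : G) = f^[k] x) ∧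
      Nat.card {x : R // g x = x} ≤ Nat.card {x : G // f x = x} := by
  let g : R →* R := (f.comp R.subtype).codRestrict R fun x => hR _ x.2
  refine ⟨g, fun _ => rfl, fun k x => ?_, ?_⟩
  · induction k with
    | zero => rfl
    | succ k ih => rw [Function.iterate_succ_apply', Function.iterate_succ_apply', ← ih]; rfl
  · exact Nat.card_le_card_of_injective
      (fun x : {x : R // g x = x} => (⟨((x : R) : G), congrArg Subtype.val x.2⟩ : {y : G // f y = y}))
      fun x y h => Subtype.ext (Subtype.ext (congrArg Subtype.val h : _))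

/-- The bound `ξ` of Higman, Kreknin and Kostrikin. -/
def hkk (p : ℕ) : ℕ := ∑ i ∈ Finset.range (2 ^ (p - 1) - 1), (p - 1) ^ i

/-- The order bound for the deep lower central factor. -/
def factorBound (p n : ℕ) : ℕ := p ^ (n * p * ((n + 1) * (hkk p + 1)))

variable {p n : ℕ} [hp : Fact p.Prime] {G : Type u} [Group G] [Finite G]

theorem pow_mem_lcs_succ (hG : IsPGroup p G) (f : G →* G) (hf : ∀ x, f^[p] x = x)
    (hfix : Nat.card {x : G // f x = x} ≤ p ^ n) {a : G} (ha : a ∈ lcs G (hkk p)) :
    a ^ p ^ ((n + 1) * (hkk p + 1)) ∈ lcs G (hkk p + 1) := by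
  set c := hkk p + 1 with hc
  -- the fixed points of the induced map are killed by `p ^ n`
  have hkill : ∀ x : Gr G c, grMap f x = x → p ^ n • x = 0 := by
    intro x hx
    rw [← sum_ι_rep x, Finset.smul_sum]
    refine Finset.sum_eq_zero fun k _ => ?_
    rw [← ι_nsmul (rep_mem x k)]
    refine ι_eq_zero_of_mem ?_
    obtain ⟨g, hg, -, hgfix⟩ := exists_restrict (lcs G (k : ℕ)) f fun y hy => map_mem_lcs f hy
    have h := pow_mem_of_fixed_mod (hG.to_subgroup _) g (hgfix.trans hfix)
      ((lcs G ((k : ℕ) + 1)).subgroupOf (lcs G (k : ℕ)))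
      (fun y hy => by
        rw [Subgroup.mem_comap, Subgroup.mem_subgroupOf, hg]
        exact map_mem_lcs f hy)
      (x := ⟨rep x k, rep_mem x k⟩) (by
        rw [Subgroup.mem_subgroupOf, Subgroup.coe_mul, Subgroup.coe_inv, hg]
        exact ι_map_eq_of_grMap_eq f hx k)
    rw [Subgroup.mem_subgroupOf, Subgroup.coe_pow] at h
    exact h
  have hiter : ∀ x : Gr G c, (grMap f)^[p] x = x := by
    intro x
    have hmem : ∀ (k : ℕ) (i : Fin c), f^[k] (rep x i) ∈ lcs G (i : ℕ) := by
      intro k i
      induction k with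
      | zero => exact rep_mem x i
      | succ k ih => rw [Function.iterate_succ_apply']; exact map_mem_lcs f ih
    have h : ∀ k : ℕ, (grMap f)^[k] x = ∑ i : Fin c, ι (i : ℕ) (f^[k] (rep x i)) := by
      intro k
      induction k with
      | zero => exact (sum_ι_rep x).symm
      | succ k ih =>
        rw [Function.iterate_succ_apply', ih, map_sum]
        refine Finset.sum_congr rfl fun i _ => ?_
        rw [grMap_ι f (hmem k i), Function.iterate_succ_apply']
    rw [h p]
    conv_rhs => rw [← sum_ι_rep x]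
    exact Finset.sum_congr rfl fun i _ => by rw [hf]
  have h := lowerSeq_class_smul (grMap f) (grMap_lie f) hiter (p ^ n) hkill (n := hkk p) rfl
    _ (ι_mem_lowerSeq (c := c) (hkk p) a ha)
  rw [← pow_succ, ← pow_mul, ← ι_nsmul ha] at h
  exact mem_of_ι_eq_zero (by omega) (pow_mem ha _) h

theorem card_lcs_le (hG : IsPGroup p G) (f : G →* G) (hf : ∀ x, f^[p] x = x)
    (hfix : Nat.card {x : G // f x = x} ≤ p ^ n) :
    Nat.card (lcs G (hkk p)) ≤ factorBound p n * Nat.card (lcs G (hkk p + 1)) := by
  set H := hkk p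
  obtain ⟨g, hg, hgit, hgfix⟩ := exists_restrict (lcs G H) f fun y hy => map_mem_lcs f hy
  let q : Q G H →* Q G H := QuotientGroup.map _ _ g fun y hy => by
    rw [Subgroup.mem_comap, Subgroup.mem_subgroupOf, hg]
    exact map_mem_lcs f hy
  have hq : ∀ y : lcs G H, q (QuotientGroup.mk y) = QuotientGroup.mk (g y) := fun _ => rfl
  have hqit : ∀ x : Additive (Q G H), (MonoidHom.toAdditive q)^[p] x = x := by
    intro x
    obtain ⟨y, hy⟩ := QuotientGroup.mk_surjective (Additive.toMul x)
    have h : ∀ k, (MonoidHom.toAdditive q)^[k] (Additive.ofMul (QuotientGroup.mk y : Q G H)) =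
        Additive.ofMul (QuotientGroup.mk (g^[k] y) : Q G H) := by
      intro k
      induction k with
      | zero => rfl
      | succ k ih => rw [Function.iterate_succ_apply', ih, Function.iterate_succ_apply']; rfl
    have hx : x = Additive.ofMul (QuotientGroup.mk y : Q G H) := by rw [hy]; rfl
    rw [hx, h p]
    congr 2
    exact Subtype.ext ((hgit p y).trans (hf y))
  have hqfix : Nat.card {x : Additive (Q G H) // MonoidHom.toAdditive q x = x} ≤ p ^ n := by
    refine le_trans (le_of_eq ?_) (((card_fixed_quotient_le g _ q hq).trans hgfix).trans hfix)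
    exact Nat.card_congr (Equiv.subtypeEquiv Additive.toMul fun x => Iff.rfl)
  have hexp : ∀ x : Additive (Q G H), p ^ ((n + 1) * (H + 1)) • x = 0 := by
    intro x
    obtain ⟨y, hy⟩ := QuotientGroup.mk_surjective (Additive.toMul x)
    have hx : x = Additive.ofMul (QuotientGroup.mk y : Q G H) := by rw [hy]; rfl
    rw [hx, ← ofMul_pow, ← QuotientGroup.mk_pow, (QuotientGroup.eq_one_iff _).2, ofMul_one]
    rw [Subgroup.mem_subgroupOf, Subgroup.coe_pow]
    exact pow_mem_lcs_succ hG f hf hfix y.2
  have h := card_le_of_exponent ((n + 1) * (H + 1)) (Additive (Q G H)) (MonoidHom.toAdditive q) hqit hqfix hexp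
  rw [Subgroup.card_eq_card_quotient_mul_card_subgroup ((lcs G (H + 1)).subgroupOf (lcs G H)),
    Nat.card_congr (Subgroup.subgroupOfEquivOfLe (lcs_succ_le G H)).toEquiv]
  refine Nat.mul_le_mul_right _ (le_trans (le_of_eq ?_) h)
  exact Nat.card_congr Additive.ofMul

/-- The bound for `p`-groups. -/
theorem derivedSeries_pgroup (hG : IsPGroup p G) (f : G →* G) (hf : ∀ x, f^[p] x = x)
    (hfix : Nat.card {x : G // f x = x} ≤ p ^ n) :
    derivedSeries G (factorBound p n + (hkk p + 1)) = ⊥ := by
  haveI : Group.IsNilpotent G := hG.isNilpotent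
  set M := factorBound p n
  set R := derivedSeries G M
  haveI : R.Normal := derivedSeries_normal G M
  obtain ⟨g, -, hgit, hgfix⟩ := exists_restrict R f fun x hx =>
    map_derivedSeries_le_derivedSeries f M ⟨x, hx, rfl⟩
  have hbot := lowerCentral_eq_bot_of_index_le (R := R) (Subgroup.derived_le_lower_central M)
    (card_lcs_le (hG.to_subgroup R) g (fun x => Subtype.ext ((hgit p x).trans (hf x))) (hgfix.trans hfix))
  refine derivedSeries_bot_add R le_rfl (le_bot_iff.1 ?_)
  exact (Subgroup.derived_le_lower_central _).trans hbot.le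

end Cfsg.Lib.AlperinFixed
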