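/-
The derived length of a finite solvable group with an automorphism of order `p` having `p ^ n` fixed points.
-/
import Cfsg.Agent.AlperinFixed.PGroup
import Cfsg.Agent.S3779
import Cfsg.Agent.PGroups.Basic
import Cfsg.Agent.HallHigman.Complemented
import Cfsg.Agent.Blocks.ItoDegrees
import Cfsg.Agent.Components.PComponents

set_option autoImplicit false

namespace Cfsg.Lib.AlperinFixed

universe u

/-- The bound for the quotient by `O_p`. -/
def quotientBound (p n : ℕ) : ℕ := (p ^ (n * p)) ^ (p ^ (n * p))

variable {p n : ℕ} [hp : Fact p.Prime] {G : Type u} [Group G] [Finite G]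

theorem bijective_of_iterate {α : Type u} [Finite α] {f : α → α} {k : ℕ} (hk : 0 < k) (hf : ∀ x, f^[k] x = x) :
    Function.Bijective f := by
  rw [← Finite.surjective_iff_bijective]
  intro x
  refine ⟨f^[k - 1] x, ?_⟩
  rw [← Function.iterate_succ_apply' f, show (k - 1).succ = k by omega, hf]

theorem derivedSeries_pPrimeCore (hsol : Group.IsSolvable G) (f : G →* G) (hf : ∀ x, f^[p] x = x)
    (hfix : Nat.card {x : G // f x = x} = p ^ n) :
    derivedSeries (Cfsg.pPrimeCore p G) (hkk p) = ⊥ := by
  set R := Cfsg.pPrimeCore p G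
  have hbij : Function.Bijective f := bijective_of_iterate hp.out.pos hf
  let e : MulAut G := MulEquiv.ofBijective f hbij
  have hR : ∀ x ∈ R, f x ∈ R := fun x hx => by
    have h : R.map e.toMonoidHom = R := Subgroup.characteristic_iff_map_eq.1 inferInstance e
    exact h ▸ ⟨x, hx, rfl⟩
  obtain ⟨g, hg, hgit, -⟩ := exists_restrict R f hR
  -- the only fixed point is the identity
  have hfpf : ∀ x : R, g x = x → x = 1 := by
    intro x hx
    let C : Subgroup G := f.eqLocus (MonoidHom.id G)
    have hxC : (x : G) ∈ C := (hg x).symm.trans (congrArg Subtype.val hx)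
    have h1 := C.orderOf_dvd_natCard hxC
    rw [show Nat.card C = p ^ n from hfix] at h1
    have h2 := R.orderOf_dvd_natCard x.2
    have h3 : orderOf (x : G) ∣ 1 := by
      rw [← (Cfsg.Lib.Components.coprime_card_pPrimeCore p : (Nat.card R).Coprime p).pow_right n]
      exact Nat.dvd_gcd h2 h1
    exact Subtype.ext (orderOf_eq_one_iff.1 (Nat.dvd_one.1 h3))
  have hgbij : Function.Bijective g :=
    bijective_of_iterate hp.out.pos fun x => Subtype.ext ((hgit p x).trans (hf x))
  let a : MulAut R := MulEquiv.ofBijective g hgbij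
  by_cases ha : a = 1
  · haveI : Subsingleton R := ⟨fun x y => by
      have h : ∀ z : R, z = 1 := fun z => hfpf z (DFunLike.congr_fun ha z)
      rw [h x, h y]⟩
    exact Subsingleton.elim _ _
  · have hap : a ^ p = 1 := by
      refine MulEquiv.ext fun x => ?_
      have h : ∀ k, (a ^ k) x = g^[k] x := by
        intro k
        induction k with
        | zero => rfl
        | succ k ih => rw [pow_succ', MulAut.mul_apply, ih, Function.iterate_succ_apply']; rfl
      rw [h p]
      exact Subtype.ext ((hgit p x).trans (hf x))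
    have h3 := (Cfsg.Agent.S3779.result hp.out a (orderOf_eq_prime hap ha) fun x hx => hfpf x hx).2.2
    exact le_bot_iff.1 ((Subgroup.derived_le_lower_central _).trans h3.le)

theorem derivedSeries_of_pPrimeCore_bot (hsol : Group.IsSolvable G) (hO : Cfsg.pPrimeCore p G = ⊥)
    (f : G →* G) (hf : ∀ x, f^[p] x = x) (hfix : Nat.card {x : G // f x = x} ≤ p ^ n) :
    derivedSeries G (quotientBound p n + (factorBound p n + (hkk p + 1))) = ⊥ := by
  set O := Cfsg.pCore p G
  have hOp : IsPGroup p O := Cfsg.Lib.Components.isPGroup_pCore p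
  have hbij : Function.Bijective f := bijective_of_iterate hp.out.pos hf
  let e : MulAut G := MulEquiv.ofBijective f hbij
  have hO' : ∀ x ∈ O, f x ∈ O := fun x hx => by
    have h : O.map e.toMonoidHom = O := Subgroup.characteristic_iff_map_eq.1 inferInstance e
    exact h ▸ ⟨x, hx, rfl⟩
  obtain ⟨g, hg, hgit, hgfix⟩ := exists_restrict O f hO'
  have hgp : ∀ x : O, g^[p] x = x := fun x => Subtype.ext ((hgit p x).trans (hf x))
  have hgfix' := hgfix.trans hfix
  -- the Frattini quotient is small
  have hgbij : Function.Bijective g := bijective_of_iterate hp.out.pos hgp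
  let a : MulAut O := MulEquiv.ofBijective g hgbij
  have hΦ : ∀ (b : MulAut O), ∀ x ∈ frattini O, b x ∈ frattini O := fun b x hx => by
    have h : (frattini O).map b.toMonoidHom = frattini O :=
      Subgroup.characteristic_iff_map_eq.1 inferInstance b
    exact h ▸ ⟨x, hx, rfl⟩
  letI : CommGroup (O ⧸ frattini O) :=
    { (inferInstance : Group (O ⧸ frattini O)) with
      mul_comm := (Cfsg.Lib.PGroups.isMulCommutative_quotient_frattini hOp).is_comm.comm }
  let q : (O ⧸ frattini O) →* (O ⧸ frattini O) := QuotientGroup.map _ _ g fun x hx => hΦ a x hx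
  have hV : Nat.card (O ⧸ frattini O) ≤ p ^ (n * p) := by
    have hqit : ∀ x : Additive (O ⧸ frattini O), (MonoidHom.toAdditive q)^[p] x = x := by
      intro x
      obtain ⟨y, hy⟩ := QuotientGroup.mk_surjective (Additive.toMul x)
      have h : ∀ k, (MonoidHom.toAdditive q)^[k] (Additive.ofMul (QuotientGroup.mk y : O ⧸ frattini O)) =
          Additive.ofMul (QuotientGroup.mk (g^[k] y) : O ⧸ frattini O) := by
        intro k
        induction k with
        | zero => rfl
        | succ k ih => rw [Function.iterate_succ_apply', ih, Function.iterate_succ_apply']; rfl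
      have hx : x = Additive.ofMul (QuotientGroup.mk y : O ⧸ frattini O) := by rw [hy]; rfl
      rw [hx, h p, hgp]
    have hqfix : Nat.card {x : Additive (O ⧸ frattini O) // MonoidHom.toAdditive q x = x} ≤ p ^ n := by
      refine le_trans (le_of_eq ?_) ((card_fixed_quotient_le g _ q fun _ => rfl).trans hgfix')
      exact Nat.card_congr (Equiv.subtypeEquiv Additive.toMul fun x => Iff.rfl)
    have hexp : ∀ x : Additive (O ⧸ frattini O), p ^ 1 • x = 0 := by
      intro x
      rw [pow_one]
      exact congrArg Additive.ofMul (Cfsg.Lib.PGroups.pow_prime_quotient_frattini hOp (Additive.toMul x))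
    have h := card_le_of_exponent 1 (Additive (O ⧸ frattini O)) (MonoidHom.toAdditive q) hqit hqfix hexp
    rw [mul_one] at h
    exact le_trans (le_of_eq (Nat.card_congr Additive.ofMul)) h
  -- the quotient by the core acts faithfully
  let act : G ⧸ O → (O ⧸ frattini O → O ⧸ frattini O) := fun c v =>
    QuotientGroup.mk (MulAut.conjNormal c.out v.out)
  have hact : Function.Injective act := by
    intro c d hcd
    rw [← QuotientGroup.out_eq' c, ← QuotientGroup.out_eq' d, QuotientGroup.eq]
    refine Cfsg.Lib.HallHigman.mem_pCore_of_centralizes_frattini (Cfsg.Lib.Blocks.isPSolvable_of_solvable hsol) hO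
      ((frattini O).map O.subtype) rfl _ fun b hb => ?_
    set y := c.out
    set z := d.out
    have hout : ∀ w : G, ∀ x : O, (QuotientGroup.mk (MulAut.conjNormal w x) : O ⧸ frattini O) =
        QuotientGroup.mk (MulAut.conjNormal w (QuotientGroup.mk x : O ⧸ frattini O).out) := by
      intro w x
      rw [QuotientGroup.eq, ← map_inv, ← map_mul]
      exact hΦ _ _ (QuotientGroup.eq.1 (QuotientGroup.out_eq' (QuotientGroup.mk x : O ⧸ frattini O)).symm)
    have h1 : (QuotientGroup.mk (MulAut.conjNormal y ⟨b, hb⟩) : O ⧸ frattini O) =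
        QuotientGroup.mk (MulAut.conjNormal z ⟨b, hb⟩) := by
      rw [hout y, hout z]
      exact congrFun hcd _
    have h2 := hΦ (MulAut.conjNormal y⁻¹) _ (QuotientGroup.eq.1 h1)
    rw [map_mul, map_inv, ← MulAut.mul_apply, ← map_mul, inv_mul_cancel, map_one, MulAut.one_apply,
      ← MulAut.mul_apply, ← map_mul] at h2
    -- `b⁻¹` times the conjugate lies in the Frattini subgroup
    refine ⟨MulAut.conjNormal (y⁻¹ * z) ⟨b, hb⟩ * (⟨b, hb⟩ : O)⁻¹, ?_, ?_⟩
    · have h3 := Subgroup.Normal.mem_comm inferInstance h2
      exact h3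
    · rw [Subgroup.coe_subtype, Subgroup.coe_mul, Subgroup.coe_inv, MulAut.conjNormal_apply]
  have hq : Nat.card (G ⧸ O) ≤ quotientBound p n := by
    refine (Nat.card_le_card_of_injective act hact).trans ?_
    rw [Nat.card_fun]
    exact le_trans (Nat.pow_le_pow_left hV _) (Nat.pow_le_pow_right (Nat.pos_of_ne_zero (by simp [hp.out.ne_zero])) hV)
  haveI := hsol
  refine derivedSeries_bot_add O (derivedSeries_le_of_quotient O (derivedSeries_bot_of_card_le inferInstance hq))
    (derivedSeries_pgroup hOp g hgp hgfix')

theorem derivedSeries_solvable (hsol : Group.IsSolvable G) (f : G →* G) (hf : ∀ x, f^[p] x = x)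
    (hfix : Nat.card {x : G // f x = x} = p ^ n) :
    derivedSeries G (quotientBound p n + (factorBound p n + (hkk p + 1)) + hkk p) = ⊥ := by
  set R := Cfsg.pPrimeCore p G
  have hbij : Function.Bijective f := bijective_of_iterate hp.out.pos hf
  have hR : R ≤ R.comap f := fun x hx => by
    have h : R.map (MulEquiv.ofBijective f hbij : MulAut G).toMonoidHom = R :=
      Subgroup.characteristic_iff_map_eq.1 inferInstance _
    exact h ▸ ⟨x, hx, rfl⟩
  let q : G ⧸ R →* G ⧸ R := QuotientGroup.map R R f hR
  have hq : ∀ x, q^[p] x = x := by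
    intro x
    obtain ⟨y, rfl⟩ := QuotientGroup.mk_surjective x
    have h : ∀ k, q^[k] (y : G ⧸ R) = ((f^[k] y : G) : G ⧸ R) := by
      intro k
      induction k with
      | zero => rfl
      | succ k ih => rw [Function.iterate_succ_apply', ih, Function.iterate_succ_apply']; rfl
    rw [h p, hf]
  haveI := hsol
  refine derivedSeries_bot_add R (derivedSeries_le_of_quotient R ?_) (derivedSeries_pPrimeCore hsol f hf hfix)
  exact derivedSeries_of_pPrimeCore_bot inferInstance Cfsg.Lib.Components.pPrimeCore_quotient_eq_bot q hq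
    ((card_fixed_quotient_le f R q fun _ => rfl).trans hfix.le)

end Cfsg.Lib.AlperinFixed
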